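import Groth.Agent.Lib.H70.GrSec
import Groth.Agent.Lib.Koszul.Stable.Cech

set_option linter.unusedSectionVars false

/-!
# A section of `M(n)~` on `D₊(g)` as an element of `M_g`
-/

noncomputable section

universe u

open CategoryTheory AlgebraicGeometry TopologicalSpace Opposite DirectSum

namespace Groth.Agent.H68.CokerAlpha

open Groth.Agent.H81.RelProj.GrTilde.Frac Groth.Agent.H81.RelProj.GrTilde.Basic
open Groth.Agent.Lib.H70.GrSec (proj proj_of_mem proj_mem proj_smul)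
open Groth.Agent.Lib.Koszul.Stable

variable {R σ : Type u} [CommRing R] [SetLike σ R] [AddSubgroupClass σ R] {𝒜 : ℕ → σ} [GradedRing 𝒜]
variable {M τ : Type u} [AddCommGroup M] [Module R M] [SetLike τ M] [AddSubgroupClass τ M] {ℳ : ℕ → τ}
variable [SetLike.GradedSMul 𝒜 ℳ] [DirectSum.Decomposition ℳ]

variable (ℳ) in
/-- The component in an integral degree. -/
def P (z : ℤ) : M →+ M := if 0 ≤ z then proj ℳ z.toNat else 0

theorem deg_P (z : ℤ) (m : M) : Deg ℳ z (P ℳ z m) := by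
  unfold P
  split_ifs with h
  · exact Deg.of_mem (proj_mem ℳ _ m) (Or.inl (Int.toNat_of_nonneg h))
  · exact Deg.zero z

theorem P_of_deg {z : ℤ} {a : M} (h : Deg ℳ z a) : P ℳ z a = a := by
  rcases h with ⟨i, rfl, hi⟩ | rfl
  · rw [P, if_pos (Int.natCast_nonneg i), Int.toNat_natCast]
    exact proj_of_mem hi
  · exact map_zero _

theorem P_of_deg_ne {z z' : ℤ} {a : M} (h : Deg ℳ z a) (hne : z ≠ z') : P ℳ z' a = 0 := by
  rcases h with ⟨i, rfl, hi⟩ | rfl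
  · unfold P
    split_ifs with h'
    · exact decompose_of_mem_ne ℳ hi (by omega)
    · rfl
  · exact map_zero _

theorem P_smul {j : ℕ} {h : R} (hh : h ∈ 𝒜 j) (z : ℤ) (a : M) :
    P ℳ (j + z) (h • a) = h • P ℳ z a := by
  induction a using DirectSum.Decomposition.inductionOn ℳ with
  | zero => simp
  | @homogeneous l m =>
    have h1 : Deg ℳ (l : ℤ) (m : M) := Deg.of_mem m.2 (Or.inl rfl)
    by_cases hlz : (l : ℤ) = z
    · subst hlz
      rw [P_of_deg h1, P_of_deg (h1.smul hh)]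
    · rw [P_of_deg_ne h1 hlz, P_of_deg_ne (h1.smul hh) (by omega), smul_zero]
  | add a b ha hb => rw [smul_add, map_add, map_add, smul_add, ha, hb]

/-- Components in pairwise distinct degrees of a relation vanish. -/
theorem sep {S : Finset ℤ} {c : ℤ} {a : ℤ → M} (ha : ∀ n ∈ S, Deg ℳ (c + n) (a n))
    (h : ∑ n ∈ S, a n = 0) {n : ℤ} (hn : n ∈ S) : a n = 0 := by
  have e := congrArg (P ℳ (c + n)) h
  rw [map_sum, map_zero, Finset.sum_eq_single n (fun m hm hne => P_of_deg_ne (ha m hm) (by omega))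
    (fun hh => absurd hn hh), P_of_deg (ha n hn)] at e
  exact e

/-- An element is the sum of its components, over any large enough set of degrees. -/
theorem sum_P (c : ℤ) (m : M) :
    ∃ S₀ : Finset ℤ, ∀ S : Finset ℤ, S₀ ⊆ S → ∑ n ∈ S, P ℳ (c + n) m = m := by
  classical
  refine ⟨(decompose ℳ m).support.image (fun l : ℕ => (l : ℤ) - c), fun S hS => ?_⟩
  rw [← Finset.sum_subset hS fun n _ hn => ?_, Finset.sum_image (fun x _ y _ hxy => by simpa using hxy)]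
  · conv_rhs => rw [← sum_support_decompose ℳ m]
    refine Finset.sum_congr rfl fun l _ => ?_
    rw [show c + ((l : ℤ) - c) = (l : ℤ) by ring, P, if_pos (Int.natCast_nonneg l), Int.toNat_natCast]
    rfl
  · unfold P
    split_ifs with h
    · show (decompose ℳ m (c + n).toNat : M) = 0
      by_contra hne
      exact hn (Finset.mem_image.2 ⟨(c + n).toNat, DFinsupp.mem_support_iff.2
        (fun e => hne (by rw [e]; rfl)), by omega⟩)
    · rfl

/-- The fraction `a / g ^ k`. -/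
def fr (g : R) (k : ℕ) : M →+ Cech.L g M :=
  AddMonoidHom.mk' (fun a => LocalizedModule.mk a (⟨g ^ k, k, rfl⟩ : Submonoid.powers g)) fun a b => by
    rw [LocalizedModule.mk_add_mk, LocalizedModule.mk_eq]
    exact ⟨1, by simp only [one_smul, Submonoid.smul_def, Submonoid.coe_mul, smul_add, smul_smul]⟩

theorem fr_def (g : R) (k : ℕ) (a : M) : fr g k a = LocalizedModule.mk a (⟨g ^ k, k, rfl⟩ : Submonoid.powers g) := rfl

theorem fr_eq_iff {g : R} {k l : ℕ} {a b : M} :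
    fr g k a = fr g l b ↔ ∃ N : ℕ, g ^ N • g ^ l • a = g ^ N • g ^ k • b := by
  rw [fr_def, fr_def, LocalizedModule.mk_eq]
  constructor
  · rintro ⟨⟨_, N, rfl⟩, h⟩
    exact ⟨N, h⟩
  · rintro ⟨N, h⟩
    exact ⟨⟨_, N, rfl⟩, h⟩

theorem fr_eq_zero_iff {g : R} {k : ℕ} {a : M} : fr g k a = 0 ↔ ∃ N : ℕ, g ^ N • a = 0 := by
  rw [← map_zero (fr g k), fr_eq_iff]
  simp only [smul_zero]
  constructor
  · rintro ⟨N, h⟩; exact ⟨N + k, by rw [pow_add, mul_smul, h]⟩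
  · rintro ⟨N, h⟩; exact ⟨N, by rw [smul_comm, h, smul_zero]⟩

theorem fr_shift (g : R) (k l : ℕ) (a : M) : fr g (l + k) (g ^ l • a) = fr g k a := by
  rw [fr_eq_iff]
  exact ⟨0, by simp only [pow_zero, one_smul, smul_smul, ← pow_add, add_comm k l]⟩

theorem fr_zero_mk (g : R) (a : M) : fr g 0 a = Cech.mk g M a := by
  rw [fr_def, LocalizedModule.mkLinearMap_apply, LocalizedModule.mk_eq]
  exact ⟨1, by simp only [one_smul, Submonoid.smul_def, Submonoid.coe_one, pow_zero]⟩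

theorem fr_surjective (g : R) (z : Cech.L g M) : ∃ k a, fr g k a = z := by
  induction z using LocalizedModule.induction_on with
  | _ m s =>
    obtain ⟨_, k, rfl⟩ := s
    exact ⟨k, m, rfl⟩

theorem pow_smul_fr (g : R) (k : ℕ) (a : M) : g ^ k • fr g k a = Cech.mk g M a := by
  rw [fr_def, LocalizedModule.smul'_mk, LocalizedModule.mkLinearMap_apply, LocalizedModule.mk_eq]
  exact ⟨1, by simp only [one_smul, Submonoid.smul_def, Submonoid.coe_one]⟩

theorem ρ_fr {g g' c : R} (hgc : g * c = g') (hu : IsUnit (algebraMap R (Module.End R (Cech.L g' M)) g))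
    (k : ℕ) (a : M) : Cech.ρ g g' hu (fr g k a) = fr g' k (c ^ k • a) := by
  refine ((Module.End.isUnit_iff _).1 (Cech.isUnit_powers hu ⟨g ^ k, k, rfl⟩)).1 ?_
  show g ^ k • Cech.ρ g g' hu (fr g k a) = g ^ k • fr g' k (c ^ k • a)
  rw [← map_smul, pow_smul_fr, Cech.ρ_mk, ← pow_smul_fr g' k a, ← hgc, fr_def, fr_def,
    LocalizedModule.smul'_mk, LocalizedModule.smul'_mk]
  congr 1
  rw [smul_smul, mul_pow]

/-- Global sections. -/
abbrev GS (𝒜 : ℕ → σ) [GradedRing 𝒜] (ℳ : ℕ → τ) [SetLike.GradedSMul 𝒜 ℳ] (n : ℤ) : Type u :=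
  GrMod.sect 𝒜 ℳ n (op (⊤ : Opens (ProjectiveSpectrum.top 𝒜)))

variable {n : ℤ} {d : ℕ} {g : R}

theorem pow_nin (k : ℕ) {y : ProjectiveSpectrum 𝒜} (hy : g ∉ y.asHomogeneousIdeal) :
    g ^ k ∉ y.asHomogeneousIdeal := fun h => hy (y.isPrime.mem_of_pow_mem k h)

/-- `z` is the image of `s` in `M_g`. -/
def Rep (g : R) (d : ℕ) (s : GS 𝒜 ℳ n) (z : Cech.L g M) : Prop :=
  ∃ (k : ℕ) (a : M), Deg ℳ ((k : ℤ) * d + n) a ∧
    (∀ (y : (⊤ : Opens (ProjectiveSpectrum.top 𝒜))) (hy : g ∉ y.1.asHomogeneousIdeal),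
      val s y = LocalizedModule.mk a ⟨g ^ k, pow_nin k hy⟩) ∧ z = fr g k a

variable (hg : g ∈ 𝒜 d) (hd : 0 < d)

include hg in
theorem rep_shift {s : GS 𝒜 ℳ n} {k : ℕ} {a : M} (ha : Deg ℳ ((k : ℤ) * d + n) a)
    (hv : ∀ (y : (⊤ : Opens (ProjectiveSpectrum.top 𝒜))) (hy : g ∉ y.1.asHomogeneousIdeal),
      val s y = LocalizedModule.mk a ⟨g ^ k, pow_nin k hy⟩) (l : ℕ) :
    Deg ℳ (((l + k : ℕ) : ℤ) * d + n) (g ^ l • a) ∧
    ∀ (y : (⊤ : Opens (ProjectiveSpectrum.top 𝒜))) (hy : g ∉ y.1.asHomogeneousIdeal),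
      val s y = LocalizedModule.mk (g ^ l • a) ⟨g ^ (l + k), pow_nin (l + k) hy⟩ := by
  refine ⟨(ha.smul (SetLike.pow_mem_graded l hg)).congr (by push_cast [smul_eq_mul]; ring), fun y hy => ?_⟩
  rw [hv y hy, LocalizedModule.mk_eq]
  exact ⟨1, by simp only [one_smul, Submonoid.smul_def, smul_smul, pow_add, mul_comm]⟩

include hg hd

theorem exists_rep (s : GS 𝒜 ℳ n) : ∃ z, Rep g d s z := by
  obtain ⟨k, i, m, hm, hi, hv⟩ := exists_frac_basicOpen hd hg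
    (GrMod.res 𝒜 ℳ n (homOfLE (le_top : ProjectiveSpectrum.basicOpen 𝒜 g ≤ ⊤)).op s)
  exact ⟨fr g k m, k, m, Deg.of_mem hm (Or.inl hi), fun y hy => hv ⟨y.1, hy⟩ _, rfl⟩

theorem rep_unique {s : GS 𝒜 ℳ n} {z z' : Cech.L g M} (h : Rep g d s z) (h' : Rep g d s z') :
    z = z' := by
  obtain ⟨k, a, ha, hv, rfl⟩ := h
  obtain ⟨l, b, hb, hv', rfl⟩ := h'
  have hk := fun k : ℕ => SetLike.pow_mem_graded (A := 𝒜) k hg
  obtain ⟨N, hN⟩ := exists_pow_smul_eq_zero (𝒜 := 𝒜) hd hg (m := g ^ l • a - g ^ k • b) fun x =>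
    (mk_eq_mk_iff (n := n) (hk k) (hk l) (pow_nin k x.2) (pow_nin l x.2)
      (ha.congr (by push_cast [smul_eq_mul]; ring)) (hb.congr (by push_cast [smul_eq_mul]; ring))).1
      ((hv ⟨x.1, trivial⟩ x.2).symm.trans (hv' ⟨x.1, trivial⟩ x.2))
  exact fr_eq_iff.2 ⟨N, by rw [← sub_eq_zero, ← smul_sub]; exact hN⟩

theorem rep_add {s t : GS 𝒜 ℳ n} {z w : Cech.L g M} (h : Rep g d s z) (h' : Rep g d t w) :
    Rep g d (s + t) (z + w) := by
  obtain ⟨k, a, ha, hv, rfl⟩ := h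
  obtain ⟨l, b, hb, hv', rfl⟩ := h'
  obtain ⟨ha', hva⟩ := rep_shift hg ha hv l
  obtain ⟨hb', hvb⟩ := rep_shift hg hb hv' k
  refine ⟨l + k, g ^ l • a + g ^ k • b, ha'.add (hb'.congr (by push_cast; ring)), fun y hy => ?_, ?_⟩
  · rw [val_add, hv y hy, hv' y hy, LocalizedModule.mk_add_mk, LocalizedModule.mk_eq]
    exact ⟨1, by simp only [one_smul, Submonoid.smul_def, Submonoid.coe_mul, pow_add, mul_comm (g ^ k)]⟩
  · rw [map_add, fr_shift, add_comm l k, fr_shift]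

/-- The image in `M_g` of a section of `M(n)~`. -/
def φ : GS 𝒜 ℳ n →+ Cech.L g M :=
  AddMonoidHom.mk' (fun s => (exists_rep hg hd s).choose) fun s t =>
    rep_unique hg hd (exists_rep hg hd (s + t)).choose_spec
      (rep_add hg hd (exists_rep hg hd s).choose_spec (exists_rep hg hd t).choose_spec)

theorem rep_φ (s : GS 𝒜 ℳ n) : Rep g d s (φ hg hd s) := (exists_rep hg hd s).choose_spec

theorem φ_eq {s : GS 𝒜 ℳ n} {z : Cech.L g M} (h : Rep g d s z) : φ hg hd s = z :=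
  rep_unique hg hd (rep_φ hg hd s) h

theorem φ_ge (s : GS 𝒜 ℳ n) :
    ∃ k₀ : ℕ, ∀ K, k₀ ≤ K → ∃ a, Deg ℳ ((K : ℤ) * d + n) a ∧ φ hg hd s = fr g K a := by
  obtain ⟨k, a, ha, hv, hz⟩ := rep_φ hg hd s
  refine ⟨k, fun K hK => ?_⟩
  obtain ⟨l, rfl⟩ := Nat.exists_eq_add_of_le' hK
  exact ⟨g ^ l • a, (rep_shift hg ha hv l).1, hz.trans (fr_shift g k l a).symm⟩

theorem val_eq_zero_of_φ {s : GS 𝒜 ℳ n} (h : φ hg hd s = 0)
    (y : (⊤ : Opens (ProjectiveSpectrum.top 𝒜))) (hy : g ∉ y.1.asHomogeneousIdeal) : val s y = 0 := by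
  obtain ⟨k, a, ha, hv, hz⟩ := rep_φ hg hd s
  obtain ⟨N, hN⟩ := fr_eq_zero_iff.1 (hz.symm.trans h)
  rw [hv y hy, ← LocalizedModule.zero_mk ⟨g ^ k, pow_nin k hy⟩, LocalizedModule.mk_eq]
  exact ⟨⟨g ^ N, pow_nin N hy⟩, by simp only [Submonoid.smul_def, smul_zero]; rw [smul_comm, hN, smul_zero]⟩

omit hg hd in
/-- Compatibility with the restriction maps. -/
theorem φ_face {g' c : R} {e d' : ℕ} (hg : g ∈ 𝒜 d) (hd : 0 < d) (hc : c ∈ 𝒜 e) (hg' : g' ∈ 𝒜 d')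
    (hd' : 0 < d') (he : d' = d + e) (hgc : g * c = g')
    (hu : IsUnit (algebraMap R (Module.End R (Cech.L g' M)) g)) (s : GS 𝒜 ℳ n) :
    Cech.ρ g g' hu (φ hg hd s) = φ hg' hd' s := by
  refine (φ_eq hg' hd' ?_).symm
  obtain ⟨k, a, ha, hv, hz⟩ := rep_φ hg hd s
  subst hgc he
  refine ⟨k, c ^ k • a, (ha.smul (SetLike.pow_mem_graded k hc)).congr (by push_cast [smul_eq_mul]; ring),
    fun y hy => ?_, by rw [hz, ρ_fr rfl]⟩
  have hgy : g ∉ y.1.asHomogeneousIdeal := fun h => hy (Ideal.mul_mem_right c _ h)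
  rw [hv y hgy, LocalizedModule.mk_eq]
  exact ⟨1, by simp only [one_smul, Submonoid.smul_def, smul_smul, mul_pow, mul_comm]⟩

end Groth.Agent.H68.CokerAlpha
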