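import Groth.Agent.H68.CokerAlpha.Loc
import Groth.Agent.Lib.Koszul.Stable.LC

set_option linter.unusedSectionVars false
set_option linter.style.haveILetI false

/-!
# `coker (M → ⊕ₙ Γ(Proj, M(n)~))` is the first Koszul colimit of `M`
-/

noncomputable section

universe u

open CategoryTheory CategoryTheory.Limits AlgebraicGeometry TopologicalSpace Opposite DirectSum

namespace Groth.Agent.H68.CokerAlpha

open Groth.Agent.H81.RelProj.GrTilde.Frac Groth.Agent.H81.RelProj.GrTilde.Basic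
open Groth.Agent.Lib.Koszul.Stable Groth.Agent.Lib.FlatCx

variable {R σ : Type u} [CommRing R] [SetLike σ R] [AddSubgroupClass σ R] {𝒜 : ℕ → σ} [GradedRing 𝒜]
variable {M τ : Type u} [AddCommGroup M] [Module R M] [SetLike τ M] [AddSubgroupClass τ M] {ℳ : ℕ → τ}
variable [SetLike.GradedSMul 𝒜 ℳ] [DirectSum.Decomposition ℳ]
variable {ι : Type u} {f : ι → R} {D : ι → ℕ} (hf : ∀ i, f i ∈ 𝒜 (D i)) (hD : ∀ i, 0 < D i)

/-- The direct sum of the sections is a group. -/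
instance : AddCommGroup (⨁ n : ℤ, GS 𝒜 ℳ n) :=
  @DirectSum.instAddCommGroup ℤ (GS 𝒜 ℳ) fun _ => inferInstance

include hf in
theorem pr_mem {q : ℕ} (t : Fin q → ι) : Cech.pr f t ∈ 𝒜 (∑ j, D (t j)) :=
  SetLike.prod_mem_graded (A := 𝒜) (fun j => D (t j)) (fun j => f (t j)) fun j _ => hf (t j)

include hD in
theorem deg_pos {q : ℕ} (t : Fin (q + 1) → ι) : 0 < ∑ j, D (t j) :=
  Finset.sum_pos (fun j _ => hD (t j)) Finset.univ_nonempty

include hf hD in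
/-- The cochain of a section of `M(n)~`. -/
def ψ (n : ℤ) : GS 𝒜 ℳ n →+ Cech.Cochain M f 1 :=
  AddMonoidHom.mk' (fun s t => φ (pr_mem hf t) (deg_pos hD t) s) fun s s' =>
    funext fun t => map_add (φ (pr_mem hf t) (deg_pos hD t)) s s'

/-- The map to the cochains. -/
def Ψ : (⨁ n : ℤ, GS 𝒜 ℳ n) →+ Cech.Cochain M f 1 := DirectSum.toAddMonoid (ψ hf hD)

theorem Ψ_of (n : ℤ) (s : GS 𝒜 ℳ n) (t : Fin 1 → ι) :
    Ψ (ℳ := ℳ) hf hD (DirectSum.of (GS 𝒜 ℳ) n s) t = φ (pr_mem hf t) (deg_pos hD t) s := by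
  rw [Ψ, DirectSum.toAddMonoid_of]
  rfl

theorem dT_ψ (n : ℤ) (s : GS 𝒜 ℳ n) : Cech.dT M f 1 (ψ hf hD n s) = 0 := by
  funext t
  have key : ∀ j : Fin 2,
      Cech.ρ _ (Cech.pr f t) (Cech.unit_face f t _ Fin.succAbove_right_injective)
        (ψ hf hD n s (t ∘ j.succAbove)) = φ (pr_mem hf t) (deg_pos hD t) s := fun j =>
    φ_face (pr_mem hf _) (deg_pos hD _) (hf (t j)) (pr_mem hf t) (deg_pos hD t)
      (by rw [Fin.sum_univ_succAbove (fun i => D (t i)) j, add_comm]; rfl)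
      (by show _ = ∏ i, f (t i); rw [Fin.prod_univ_succAbove (fun i => f (t i)) j, mul_comm]; rfl) _ s
  rw [Cech.dT_apply, Fin.sum_univ_two, key, key]
  simp

theorem dT_Ψ (x : ⨁ n : ℤ, GS 𝒜 ℳ n) : Cech.dT M f 1 (Ψ hf hD x) = 0 := by
  induction x using DirectSum.induction_on with
  | zero => simp
  | of n s =>
    rw [Ψ, DirectSum.toAddMonoid_of]
    exact dT_ψ hf hD n s
  | add x y hx hy => rw [map_add, map_add, hx, hy, add_zero]

section

variable (hcov : ∀ x : ProjectiveSpectrum 𝒜, ∃ i, f i ∉ x.asHomogeneousIdeal)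

include hcov in
theorem exists_not_mem (x : ProjectiveSpectrum 𝒜) :
    ∃ t : Fin 1 → ι, Cech.pr f t ∉ x.asHomogeneousIdeal := by
  obtain ⟨i, hi⟩ := hcov x
  exact ⟨fun _ => i, by rwa [show Cech.pr f (fun _ : Fin 1 => i) = f i from Fin.prod_univ_one _]⟩

include hcov in
theorem Ψ_injective : Function.Injective (Ψ (ℳ := ℳ) hf hD) := by
  classical
  refine (injective_iff_map_eq_zero _).2 fun x hx => ?_
  refine DFinsupp.ext fun n => ?_
  by_cases hn : n ∈ DFinsupp.support x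
  swap
  · exact DFinsupp.notMem_support_iff.1 hn
  refine sect_ext fun y => ?_
  obtain ⟨t, ht⟩ := exists_not_mem hcov y.1
  refine (val_eq_zero_of_φ (pr_mem hf t) (deg_pos hD t) ?_ y ht).trans (val_zero y).symm
  choose k₀ hk₀ using fun m : ℤ => φ_ge (ℳ := ℳ) (n := m) (pr_mem hf t) (deg_pos hD t) (x m)
  obtain ⟨K, hK⟩ : ∃ K : ℕ, ∀ m ∈ DFinsupp.support x, k₀ m ≤ K :=
    ⟨(DFinsupp.support x).sup k₀, fun m hm => Finset.le_sup hm⟩
  have hK' : ∀ m, ∃ a, m ∈ DFinsupp.support x → Deg ℳ ((K : ℤ) * (∑ j, D (t j) : ℕ) + m) a ∧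
      φ (pr_mem hf t) (deg_pos hD t) (x m) = fr (Cech.pr f t) K a := fun m => by
    by_cases hm : m ∈ DFinsupp.support x
    · obtain ⟨a, ha⟩ := hk₀ m K (hK m hm)
      exact ⟨a, fun _ => ha⟩
    · exact ⟨0, fun h => absurd h hm⟩
  choose a ha using hK'
  have h0 : fr (Cech.pr f t) K (∑ m ∈ DFinsupp.support x, a m) = 0 := by
    rw [map_sum]
    have e := congr_fun hx t
    rw [← DirectSum.sum_support_of x, map_sum, Finset.sum_apply] at e
    refine Eq.trans (Finset.sum_congr rfl fun m hm => ?_) e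
    rw [Ψ_of, (ha m hm).2]
  obtain ⟨N, hN⟩ := fr_eq_zero_iff.1 h0
  rw [(ha n hn).2, fr_eq_zero_iff]
  refine ⟨N, sep (ℳ := ℳ) (c := ((N • (∑ j, D (t j)) : ℕ) : ℤ) + (K : ℤ) * (∑ j, D (t j) : ℕ))
    (a := fun m => Cech.pr f t ^ N • a m) (fun m hm => ?_) (by rw [← Finset.smul_sum, hN]) hn⟩
  exact ((ha m hm).1.smul (SetLike.pow_mem_graded N (pr_mem hf t))).congr (by ring)

include hcov in
theorem exists_Ψ_eq [Finite ι] (c : Cech.Cochain M f 1) (hc : Cech.dT M f 1 c = 0) :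
    ∃ x : ⨁ n : ℤ, GS 𝒜 ℳ n, Ψ hf hD x = c := by
  classical
  haveI := Fintype.ofFinite ι
  choose k m hm using fun t => fr_surjective (Cech.pr f t) (c t)
  obtain ⟨K, hK⟩ : ∃ K, ∀ t, k t ≤ K :=
    ⟨Finset.univ.sup k, fun t => Finset.le_sup (Finset.mem_univ t)⟩
  let g : (Fin 1 → ι) → R := fun t => Cech.pr f t
  let E : (Fin 1 → ι) → ℕ := fun t => ∑ j, D (t j)
  let m₁ : (Fin 1 → ι) → M := fun t => g t ^ (K - k t) • m t
  have hm₁ : ∀ t, fr (g t) K (m₁ t) = c t := fun t => by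
    have := fr_shift (g t) (k t) (K - k t) (m t)
    rw [Nat.sub_add_cancel (hK t)] at this
    exact this.trans (hm t)
  -- the cocycle condition
  have hpair : ∀ t₁ t₂ : Fin 1 → ι, ∃ N : ℕ,
      (g t₁ * g t₂) ^ N • g t₁ ^ K • m₁ t₂ = (g t₁ * g t₂) ^ N • g t₂ ^ K • m₁ t₁ := by
    intro t₁ t₂
    let w : Fin 2 → ι := ![t₁ 0, t₂ 0]
    have h0 : w ∘ (0 : Fin 2).succAbove = t₂ := by funext i; fin_cases i; rfl
    have h1 : w ∘ (1 : Fin 2).succAbove = t₁ := by funext i; fin_cases i; rfl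
    have hw : Cech.pr f w = g t₁ * g t₂ := by
      simp only [g, Cech.pr, Fin.prod_univ_two, Fin.prod_univ_one]; rfl
    have e := congr_fun hc w
    rw [Cech.dT_apply, Fin.sum_univ_two] at e
    have hu₂ : IsUnit (algebraMap R (Module.End R (Cech.L (Cech.pr f w) M)) (Cech.pr f t₂)) :=
      h0 ▸ Cech.unit_face f w _ (Fin.succAbove_right_injective (p := (0 : Fin 2)))
    have hu₁ : IsUnit (algebraMap R (Module.End R (Cech.L (Cech.pr f w) M)) (Cech.pr f t₁)) :=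
      h1 ▸ Cech.unit_face f w _ (Fin.succAbove_right_injective (p := (1 : Fin 2)))
    rw [Cech.ρ_congr f c h0 _ _ hu₂, Cech.ρ_congr f c h1 _ _ hu₁, ← hm₁ t₁, ← hm₁ t₂,
      ρ_fr (c := g t₁) (by rw [hw, mul_comm]) hu₂, ρ_fr (c := g t₂) hw.symm hu₁] at e
    simp only [Fin.val_zero, Fin.val_one, pow_zero, pow_one, one_smul, neg_smul, Pi.zero_apply,
      ← sub_eq_add_neg, sub_eq_zero] at e
    obtain ⟨N, hN⟩ := fr_eq_iff.1 e
    refine ⟨N + K, ?_⟩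
    rw [pow_add, mul_smul, mul_smul, ← hw]
    exact hN
  choose N₀ hN₀ using hpair
  obtain ⟨N, hN⟩ : ∃ N, ∀ t₁ t₂, N₀ t₁ t₂ ≤ N :=
    ⟨Finset.univ.sup fun p : (Fin 1 → ι) × (Fin 1 → ι) => N₀ p.1 p.2,
      fun t₁ t₂ => Finset.le_sup (f := fun p : (Fin 1 → ι) × (Fin 1 → ι) => N₀ p.1 p.2)
        (Finset.mem_univ (t₁, t₂))⟩
  let K' := N + K
  let m₂ : (Fin 1 → ι) → M := fun t => g t ^ N • m₁ t
  have hm₂ : ∀ t, fr (g t) K' (m₂ t) = c t := fun t => (fr_shift _ _ _ _).trans (hm₁ t)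
  have hco : ∀ t₁ t₂, g t₁ ^ K' • m₂ t₂ = g t₂ ^ K' • m₂ t₁ := fun t₁ t₂ => by
    obtain ⟨l, hl⟩ := Nat.exists_eq_add_of_le' (hN t₁ t₂)
    have e := congrArg (fun z : M => (g t₁ * g t₂) ^ l • z) (hN₀ t₁ t₂)
    simp only [smul_smul] at e
    simp only [m₂, K', smul_smul]
    convert e using 2 <;> rw [hl] <;> ring
  -- the components
  have hgd : ∀ t, g t ∈ 𝒜 (E t) := fun t => pr_mem hf t
  let a : ℤ → (Fin 1 → ι) → M := fun n t => P ℳ (((K' • E t : ℕ) : ℤ) + n) (m₂ t)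
  have hco' : ∀ n t₁ t₂, g t₁ ^ K' • a n t₂ = g t₂ ^ K' • a n t₁ := fun n t₁ t₂ => by
    simp only [a]
    rw [← P_smul (SetLike.pow_mem_graded K' (hgd t₁)), ← P_smul (SetLike.pow_mem_graded K' (hgd t₂)),
      hco t₁ t₂, add_left_comm]
  choose tt htt using fun y : (⊤ : Opens (ProjectiveSpectrum.top 𝒜)) => exists_not_mem hcov y.1
  have hsame : ∀ (n : ℤ) (y : (⊤ : Opens (ProjectiveSpectrum.top 𝒜))) (t : Fin 1 → ι)
      (hy : g t ^ K' ∉ y.1.asHomogeneousIdeal),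
      (LocalizedModule.mk (a n (tt y)) ⟨g (tt y) ^ K', pow_nin K' (htt y)⟩ :
          GrMod.LocMod 𝒜 (M := M) y.1) = LocalizedModule.mk (a n t) ⟨g t ^ K', hy⟩ := fun n y t hy => by
    rw [LocalizedModule.mk_eq]
    exact ⟨1, by simp only [one_smul, Submonoid.smul_def]; exact hco' n t (tt y)⟩
  let s : ∀ n, GS 𝒜 ℳ n := fun n =>
    secOfRep (fun y => LocalizedModule.mk (a n (tt y)) ⟨g (tt y) ^ K', pow_nin K' (htt y)⟩) fun y =>
      ⟨K' • E (tt y), g (tt y) ^ K', a n (tt y), SetLike.pow_mem_graded K' (hgd (tt y)),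
        deg_P _ _, pow_nin K' (htt y), fun y' hy' => hsame n y' (tt y) hy'⟩
  have hrep : ∀ n t, φ (pr_mem hf t) (deg_pos hD t) (s n) = fr (g t) K' (a n t) := fun n t =>
    φ_eq _ _ ⟨K', a n t, (deg_P _ _).congr (by simp only [smul_eq_mul, E]; push_cast; ring),
      fun y hy => hsame n y t (pow_nin K' hy), rfl⟩
  choose S₀ hS₀ using fun t : Fin 1 → ι => sum_P (ℳ := ℳ) ((K' • E t : ℕ) : ℤ) (m₂ t)
  let S : Finset ℤ := Finset.univ.biUnion S₀
  refine ⟨∑ n ∈ S, DirectSum.of (GS 𝒜 ℳ) n (s n), funext fun t => ?_⟩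
  rw [map_sum, Finset.sum_apply, Finset.sum_congr rfl (fun n _ => (Ψ_of hf hD n (s n) t).trans (hrep n t)),
    ← map_sum, hS₀ t S (Finset.subset_biUnion_of_mem S₀ (Finset.mem_univ t))]
  exact hm₂ t

end

variable (𝒜 ℳ) in
/-- The images of the homogeneous pieces of `M`. -/
def gens : Set (⨁ n : ℤ, GS 𝒜 ℳ n) :=
  ⋃ i : ℕ, Set.range fun m : ℳ i => DirectSum.of (GS 𝒜 ℳ) (i : ℤ) (GrMod.globalOf 𝒜 ℳ m)

theorem Ψ_globalOf (i : ℕ) (m : ℳ i) :
    Ψ hf hD (DirectSum.of (GS 𝒜 ℳ) (i : ℤ) (GrMod.globalOf 𝒜 ℳ m)) =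
      fun t => Cech.mk (Cech.pr f t) M (m : M) := by
  funext t
  rw [Ψ_of]
  refine φ_eq _ _ ⟨0, (m : M), Deg.of_mem m.2 (Or.inl (by simp)), fun y hy => ?_, (fr_zero_mk _ _).symm⟩
  show LocalizedModule.mk (m : M) 1 = _
  rw [LocalizedModule.mk_eq]
  exact ⟨1, by simp only [one_smul, Submonoid.smul_def, pow_zero, Submonoid.coe_one]⟩

theorem dT_const (m : M) :
    Cech.dT M f 0 (fun t => Cech.mk (Cech.pr f t) M m) = fun t => Cech.mk (Cech.pr f t) M m := by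
  funext t
  rw [Cech.dT_apply, Fin.sum_univ_one, Fin.val_zero, pow_zero, one_smul, Cech.ρ_mk]

/-- The cokernel of `M → ⊕ₙ Γ(Proj, M(n)~)` is `H¹` of the augmented Cech complex. -/
theorem nonempty_coker_equiv [Finite ι] (hf : ∀ i, f i ∈ 𝒜 (D i)) (hD : ∀ i, 0 < D i)
    (hcov : ∀ x : ProjectiveSpectrum 𝒜, ∃ i, f i ∉ x.asHomogeneousIdeal) :
    Nonempty (((⨁ n : ℤ, GS 𝒜 ℳ n) ⧸ AddSubgroup.closure (gens 𝒜 ℳ)) ≃+
      (Cech.T M f).homology 1) := by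
  classical
  let toH : (⨁ n : ℤ, GS 𝒜 ℳ n) →+ (Cech.T M f).homology 1 :=
    (Elem.cls (K := Cech.T M f) (Cech.next_nat 1)).toAddMonoidHom.comp
      (AddMonoidHom.mk' (fun x => ⟨Ψ hf hD x, (Cech.T_d_apply f 1 _).trans (dT_Ψ hf hD x)⟩)
        fun x y => Subtype.ext (map_add _ x y))
  have hsurj : Function.Surjective toH := fun h => by
    obtain ⟨⟨c, hc⟩, rfl⟩ := Elem.cls_surjective (K := Cech.T M f) (Cech.next_nat 1) h
    obtain ⟨x, hx⟩ := exists_Ψ_eq (ℳ := ℳ) hf hD hcov c ((Cech.T_d_apply f 1 c).symm.trans hc)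
    exact ⟨x, congrArg (Elem.cls (K := Cech.T M f) (Cech.next_nat 1)) (Subtype.ext hx)⟩
  have hker : AddSubgroup.closure (gens 𝒜 ℳ) = toH.ker := by
    refine le_antisymm ((AddSubgroup.closure_le _).2 ?_) fun x hx => ?_
    · intro x hx
      obtain ⟨i, m, rfl⟩ := Set.mem_iUnion.1 hx
      refine AddMonoidHom.mem_ker.2 ((Elem.cls_eq_zero_iff (K := Cech.T M f) (Cech.prev_nat 0)
        (Cech.next_nat 1) _).2 ⟨fun t => Cech.mk (Cech.pr f t) M (m : M), ?_⟩)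
      exact (Cech.T_d_apply f 0 _).trans ((dT_const _).trans (Ψ_globalOf hf hD i m).symm)
    · obtain ⟨b, hb⟩ := (Elem.cls_eq_zero_iff (K := Cech.T M f) (Cech.prev_nat 0)
        (Cech.next_nat 1) _).1 (AddMonoidHom.mem_ker.1 hx)
      obtain ⟨m, rfl⟩ := (Cech.bijective_const M f).2 b
      let y : ⨁ n : ℤ, GS 𝒜 ℳ n := ∑ i ∈ (decompose ℳ m).support,
        DirectSum.of (GS 𝒜 ℳ) (i : ℤ) (GrMod.globalOf 𝒜 ℳ (decompose ℳ m i))
      have hy : y ∈ AddSubgroup.closure (gens 𝒜 ℳ) := AddSubgroup.sum_mem _ fun i _ =>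
        AddSubgroup.subset_closure (Set.mem_iUnion.2 ⟨i, decompose ℳ m i, rfl⟩)
      have hxy : Ψ hf hD x = Ψ hf hD y := by
        refine ((Cech.T_d_apply f 0 _).symm.trans hb).symm.trans ((dT_const m).trans ?_)
        funext t
        rw [map_sum, Finset.sum_apply]
        simp only [Ψ_globalOf]
        rw [← map_sum, sum_support_decompose]
      rw [Ψ_injective hf hD hcov hxy]
      exact hy
  exact ⟨(QuotientAddGroup.quotientAddEquivOfEq hker).trans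
    (QuotientAddGroup.quotientKerEquivOfSurjective _ hsurj)⟩

variable (𝒜) in
/-- Finitely many homogeneous elements of positive degree spanning the irrelevant ideal. -/
theorem exists_gens [IsNoetherianRing R] :
    ∃ (fs : List R), (∀ a ∈ fs, ∃ d, 0 < d ∧ a ∈ 𝒜 d) ∧
      Ideal.span {a | a ∈ fs} = (HomogeneousIdeal.irrelevant 𝒜).toIdeal := by
  have hfg : (Submodule.span R (⋃ i > 0, (𝒜 i : Set R))).FG := IsNoetherian.noetherian _
  obtain ⟨T, hT, hspan⟩ := Submodule.fg_span_iff_fg_span_finset_subset _ |>.1 hfg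
  refine ⟨T.toList, fun a ha => ?_, ?_⟩
  · obtain ⟨i, hi, hai⟩ := Set.mem_iUnion₂.1 (hT (Finset.mem_coe.2 (Finset.mem_toList.1 ha)))
    exact ⟨i, hi, hai⟩
  · rw [HomogeneousIdeal.irrelevant_eq_span, show {a | a ∈ T.toList} = (T : Set R) by ext; simp]
    exact hspan.symm

variable (𝒜 ℳ) in
/-- The cokernel of `M → ⊕ₙ Γ(Proj, M(n)~)` is `H¹_{R₊}(M)`. -/
theorem nonempty_coker_equiv_localCohomology [IsNoetherianRing R] :
    Nonempty (((⨁ n : ℤ, GS 𝒜 ℳ n) ⧸ AddSubgroup.closure (gens 𝒜 ℳ)) ≃+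
      LocCoh.H (HomogeneousIdeal.irrelevant 𝒜).toIdeal 1 M) := by
  obtain ⟨fs, hhom, hspan⟩ := exists_gens 𝒜
  let f : ULift.{u} (Fin fs.length) → R := fun i => fs.get i.down
  have hs : ∀ a, a ∈ fs ↔ ∃ i, f i = a := fun a =>
    List.mem_iff_get.trans ⟨fun ⟨j, hj⟩ => ⟨⟨j⟩, hj⟩, fun ⟨j, hj⟩ => ⟨j.down, hj⟩⟩
  choose D hD hf using fun i : ULift.{u} (Fin fs.length) => hhom (f i) (List.get_mem _ _)
  have hcov : ∀ x : ProjectiveSpectrum 𝒜, ∃ i, f i ∉ x.asHomogeneousIdeal := fun x => by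
    by_contra h
    push Not at h
    refine x.not_irrelevant_le fun a ha => ?_
    have ha' : a ∈ Ideal.span {b | b ∈ fs} := hspan ▸ ha
    refine Ideal.span_le.2 ?_ ha'
    intro b hb
    obtain ⟨i, rfl⟩ := (hs b).1 hb
    exact h i
  obtain ⟨e₁⟩ := nonempty_coker_equiv (ℳ := ℳ) hf hD hcov
  obtain ⟨e₂⟩ := Iso.nonempty_equiv fs f hs 1 M
  obtain ⟨e₃⟩ := LC.nonempty_equiv fs 1 M
  rw [← hspan]
  exact ⟨e₁.trans (e₂.toAddEquiv.trans e₃.toAddEquiv.symm)⟩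

end Groth.Agent.H68.CokerAlpha
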